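import Cfsg.Agent.Lib.DefectTransitive.Twist
import Cfsg.Agent.Lib.BenderQ.Kernel
import Cfsg.Agent.Lib.Blocks.ClassCount
import Cfsg.Agent.Lib.Characters.BrauerPerm
import Cfsg.Agent.Lib.Characters.Clifford
import Cfsg.Agent.Lib.Characters.Induction

/-!
With a regular normal kernel in a point stabiliser, a character of a two point stabiliser moved by
a swapping involution induces irreducibly: `G` has an irreducible character of degree divisible by
the number of points.
-/

set_option autoImplicit false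

noncomputable section

namespace CfsgLib.DefectTransitive

open Cfsg CfsgLib.Characters CfsgLib.ClassCount CfsgLib.BenderTrans CfsgLib.BenderQ CfsgLib.Induction MulAction
open scoped ComplexConjugate

universe u v

variable {G : Type u} [Group G] {Ω : Type v} [MulAction G Ω] {c e : Ω}

/-- A retraction of the stabiliser of `c` onto the two point stabiliser along the kernel. -/
theorem exists_retraction (hce : c ≠ e) (hk : HasKernelAt G Ω c) :
    ∃ (Q : Subgroup G) (π : stabilizer G c →* two G c e), Q ≤ stabilizer G c ∧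
      (∀ y : Ω, y ≠ c → ∃ u ∈ Q, u • e = y) ∧
      (∀ m : stabilizer G c, (m : G) ∈ Q → π m = 1) ∧
      (∀ m : stabilizer G c, (m : G) ∈ two G c e → (π m : G) = m) := by
  obtain ⟨Q, hQc, hQn, -, htr, hfree⟩ := hk
  have hfix : ∀ u ∈ Q, u • c = c := fun u hu => hQc hu
  have hne : ∀ m : stabilizer G c, (m : G) • e ≠ c := fun m h =>
    hce (smul_left_cancel (m : G) ((show (m : G) • c = c from m.2).trans h.symm))
  have hex : ∀ m : stabilizer G c, ∃ u ∈ Q, u • e = (m : G) • e := fun m =>
    htr e _ hce.symm (hne m)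
  choose t htQ hte using hex
  have huniq : ∀ (m : stabilizer G c) (u : G), u ∈ Q → u • e = (m : G) • e → t m = u := by
    intro m u hu hue
    have h1 : u⁻¹ * t m = 1 := hfree _ (mul_mem (inv_mem hu) (htQ m)) e hce.symm
      (by rw [mul_smul, hte, ← hue, inv_smul_smul])
    exact (inv_mul_eq_one.1 h1).symm
  have hmem : ∀ m : stabilizer G c, (t m)⁻¹ * (m : G) ∈ two G c e := fun m =>
    mem_two_iff.2 ⟨by
      rw [mul_smul, show (m : G) • c = c from m.2, inv_smul_eq_iff, hfix _ (htQ m)], by
      rw [mul_smul, ← hte, inv_smul_smul]⟩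
  let π : stabilizer G c →* two G c e :=
    { toFun := fun m => ⟨(t m)⁻¹ * (m : G), hmem m⟩
      map_one' := Subtype.ext (by
        show (t 1)⁻¹ * ((1 : stabilizer G c) : G) = 1
        rw [huniq 1 1 (one_mem _) (by simp)]
        simp)
      map_mul' := fun m k => Subtype.ext (by
        show (t (m * k))⁻¹ * ((m : G) * k) = ((t m)⁻¹ * (m : G)) * ((t k)⁻¹ * (k : G))
        set d := (t m)⁻¹ * (m : G) with hd
        have hde : d • e = e := (mem_two_iff.1 (hmem m)).2
        have hdc : d • c = c := (mem_two_iff.1 (hmem m)).1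
        rw [huniq (m * k) (t m * (d * t k * d⁻¹))
          (mul_mem (htQ m) ((Subgroup.mem_normalizer_iff.1 (hQn (show d ∈ stabilizer G c from hdc))
            (t k)).1 (htQ k))) ?_]
        · rw [hd]; group
        · rw [mul_smul, mul_smul, mul_smul, inv_smul_eq_iff.2 hde.symm, hte, hd, mul_smul,
            smul_inv_smul]
          show _ = ((m : G) * k) • e
          rw [mul_smul]) }
  refine ⟨Q, π, hQc, fun y hy => htr e y hce.symm hy, fun m hm => Subtype.ext ?_,
    fun m hm => ?_⟩
  · show (t m)⁻¹ * (m : G) = 1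
    rw [huniq m m hm rfl, inv_mul_cancel]
  · show (t m)⁻¹ * (m : G) = m
    rw [huniq m 1 (one_mem _) (by rw [one_smul, (mem_two_iff.1 hm).2]), inv_one, one_mul]

/-- The induced character: irreducible of degree divisible by the number of points. -/
theorem exists_irr_card_dvd [Finite G] [Finite Ω] (h : OneFix G Ω) (hf : HasFour G)
    (hk : HasKernelAt G Ω c) : ∃ χ : IrrCharacter G, Nat.card Ω ∣ charDegree (χ : G → ℂ) := by
  classical
  have : Fintype G := Fintype.ofFinite G
  have : MulAction.IsPretransitive G Ω := ⟨h.trans⟩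
  obtain ⟨e, hec⟩ := h.nontriv c
  have hce : c ≠ e := hec.symm
  obtain ⟨s₁, t₁, hs₁, ht₁, hst, -⟩ := h.exists_invAt_ne hf c
  obtain ⟨t', ht'⟩ := h.exists_invAt e
  obtain ⟨w, hw, -, -⟩ := h.exists_mid hs₁ ht' hce
  have hwn := OneFix.swap_normalizes hw
  have hwi : w⁻¹ = w := CfsgLib.Involutions.inv_eq_self_of_involution hw.1
  have hww : w * w = 1 := CfsgLib.Involutions.mul_self_eq_one hw.1
  let σ : two G c e ≃* two G c e :=
    { toFun := fun d => ⟨w * d * w⁻¹, (Subgroup.mem_normalizer_iff.1 hwn d).1 d.2⟩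
      invFun := fun d => ⟨w * d * w⁻¹, (Subgroup.mem_normalizer_iff.1 hwn d).1 d.2⟩
      left_inv := fun d => Subtype.ext (by
        show w * (w * (d : G) * w⁻¹) * w⁻¹ = d
        rw [hwi]; simp [← mul_assoc, hww, mul_assoc _ w w])
      right_inv := fun d => Subtype.ext (by
        show w * (w * (d : G) * w⁻¹) * w⁻¹ = d
        rw [hwi]; simp [← mul_assoc, hww, mul_assoc _ w w])
      map_mul' := fun a b => Subtype.ext (by simp) }
  have hσ : ∀ d, σ (σ d) = d := σ.left_inv
  have hmove : ∃ d, σ d ≠ d := by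
    by_contra hall
    simp only [not_exists, ne_eq, not_not] at hall
    have h1 : (swaps G c e).ncard ≤ 1 := by
      rw [Set.ncard_le_one_iff_eq (Set.toFinite _)]
      refine Or.inr ⟨w, Set.eq_singleton_iff_unique_mem.2 ⟨hw, fun r hr => ?_⟩⟩
      obtain ⟨d, hd, -, hdr⟩ := h.exists_conj_swaps hce hw hr
      have h2 : w * d * w⁻¹ = d := congrArg Subtype.val (hall ⟨d, hd⟩)
      rw [mul_inv_eq_iff_eq_mul] at h2
      rw [← hdr, ← h2, mul_inv_cancel_right]
    rw [h.ncard_swaps hce] at h1
    exact absurd ((Set.ncard_le_one (Set.toFinite _)).1 h1 _ hs₁ _ ht₁) hst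
  obtain ⟨ψ, hψ⟩ := exists_not_fixed σ hσ (h.odd_two hce) hmove
  obtain ⟨Q, π, hQc, htr, hπQ, hπD⟩ := exists_retraction hce hk
  let H : Subgroup G := stabilizer G c
  have hπs : Function.Surjective π := fun d =>
    ⟨⟨d, (mem_two_iff.1 d.2).1⟩, Subtype.ext (hπD _ d.2)⟩
  let θ : H → ℂ := fun m => (ψ : two G c e → ℂ) (π m)
  have hθirr : IsIrrCharacter H θ := CfsgLib.Clifford.isIrrCharacter_pullback ψ.2 π hπs
  have hθchar : IsCharacter H θ := isCharacter_of_irr hθirr
  have hθc : IsClassFunction H θ := Characters.isClassFunction_of_isCharacter hθchar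
  have hS1 : ∑ m : H, θ m * conj (θ m) = (Nat.card H : ℂ) := by
    have h1 := classInner_irr_self hθirr
    rw [classInner] at h1
    exact ((inv_mul_eq_one₀ (natCard_ne_zero' (X := H))).1 h1).symm
  have hx : ∀ x : G, ∑ m : H, θ m * conj (extendByZero H θ (x⁻¹ * (m : G) * x)) =
      if x ∈ H then (Nat.card H : ℂ) else 0 := by
    intro x
    split_ifs with hxH
    · rw [← hS1]
      refine Finset.sum_congr rfl fun m _ => ?_
      rw [show x⁻¹ * (m : G) * x = ((⟨x, hxH⟩ : H)⁻¹ : H) * (m : G) * (((⟨x, hxH⟩ : H)⁻¹ : H) : G)⁻¹ by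
        simp, extendByZero_conj H hθc, extendByZero_coe]
    · obtain ⟨u, hu, hue⟩ := htr (x • c) hxH
      have huc : u • c = c := hQc hu
      have hk : (u * w)⁻¹ * x ∈ H := by
        show ((u * w)⁻¹ * x) • c = c
        rw [mul_smul, inv_smul_eq_iff, mul_smul, hw.2, hue]
      obtain ⟨k, hkH, rfl⟩ : ∃ k ∈ H, x = u * w * k := ⟨_, hk, by group⟩
      have hkc : k • c = c := hkH
      have hyc : (u * w * k) • c = u • e := by rw [mul_smul, mul_smul, hkc, hw.2]
      have hmemH : ∀ d : two G c e, u * (d : G) * u⁻¹ ∈ H := fun d =>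
        mul_mem (mul_mem (show u ∈ H from huc) (mem_two_iff.1 d.2).1) (inv_mem (show u ∈ H from huc))
      let ι : two G c e → H := fun d => ⟨u * d * u⁻¹, hmemH d⟩
      have hι : Function.Injective ι := fun a b hab => Subtype.ext (by
        simpa [ι] using hab)
      rw [← sum_mul_twist_eq_zero σ hψ]
      refine (Fintype.sum_of_injective ι hι _ _ (fun m hm => ?_) (fun d => ?_)).symm
      · rw [extendByZero_notMem H θ, map_zero, mul_zero]
        intro hmem
        have hmy : (m : G) • u • e = u • e := by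
          have h1 : ((u * w * k)⁻¹ * (m : G) * (u * w * k)) • c = c := hmem
          rwa [mul_smul, mul_smul, inv_smul_eq_iff, hyc] at h1
        refine hm ⟨⟨u⁻¹ * m * u, mem_two_iff.2 ⟨?_, ?_⟩⟩, Subtype.ext ?_⟩
        · rw [mul_smul, mul_smul, huc, show (m : G) • c = c from m.2, inv_smul_eq_iff, huc]
        · rw [mul_smul, mul_smul, hmy, inv_smul_smul]
        · show u * (u⁻¹ * (m : G) * u) * u⁻¹ = m
          group
      · have h1 : θ (ι d) = (ψ : two G c e → ℂ) d := by
          have h2 : ι d = ⟨u, huc⟩ * ⟨d, (mem_two_iff.1 d.2).1⟩ * (⟨u, huc⟩ : H)⁻¹ := Subtype.ext rfl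
          show (ψ : two G c e → ℂ) (π (ι d)) = _
          rw [h2, map_mul, map_mul, map_inv, hπQ ⟨u, huc⟩ hu, inv_one, mul_one, one_mul]
          exact congrArg _ (Subtype.ext (hπD ⟨d, _⟩ d.2))
        have hwd : (σ d : G) ∈ H := (mem_two_iff.1 (σ d).2).1
        have h3 : (u * w * k)⁻¹ * ((ι d : H) : G) * (u * w * k) =
            ((⟨k, hkH⟩ : H)⁻¹ : H) * (σ d : G) * (((⟨k, hkH⟩ : H)⁻¹ : H) : G)⁻¹ := by
          show (u * w * k)⁻¹ * (u * (d : G) * u⁻¹) * (u * w * k) = k⁻¹ * (w * d * w⁻¹) * k⁻¹⁻¹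
          simp only [mul_inv_rev, inv_inv, hwi]
          group
        rw [h1, h3, extendByZero_conj H hθc, extendByZero_mem H θ hwd]
        show _ = _ * conj ((ψ : two G c e → ℂ) (π ⟨σ d, hwd⟩))
        rw [show π ⟨σ d, hwd⟩ = σ d from Subtype.ext (hπD ⟨_, hwd⟩ (σ d).2)]
  have hnorm : classInner (indFun H θ) (indFun H θ) = 1 := by
    rw [classInner_indFun H θ (isClassFunction_indFun H θ), classInner]
    simp only [indFun_apply, map_mul, map_inv₀, map_natCast, map_sum, Finset.mul_sum]
    rw [Finset.sum_comm]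
    rw [Finset.sum_congr rfl (g := fun x : G =>
      (Nat.card H : ℂ)⁻¹ * (Nat.card H : ℂ)⁻¹ * if x ∈ H then (Nat.card H : ℂ) else 0)
      fun x _ => by
        rw [← hx x, Finset.mul_sum]
        exact Finset.sum_congr rfl fun m _ => by ring,
      ← Finset.mul_sum, ← Finset.sum_filter, Finset.sum_const, nsmul_eq_mul]
    have hcard : (Finset.univ.filter fun x : G => x ∈ H).card = Nat.card H := by
      rw [Nat.card_eq_fintype_card, Fintype.card_subtype]
    rw [hcard]
    have := natCard_ne_zero' (X := H)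
    field_simp
  let χ : IrrCharacter G := ⟨indFun H θ,
    CfsgLib.BrauerPerm.isIrrCharacter_of_norm_one (isCharacter_indFun H hθchar) hnorm⟩
  refine ⟨χ, charDegree (ψ : two G c e → ℂ), ?_⟩
  have h1 : (χ : G → ℂ) 1 = (Nat.card Ω : ℂ) * charDegree (ψ : two G c e → ℂ) := by
    show indFun H θ 1 = _
    rw [indFun_one_apply, index_stabilizer_of_transitive]
    show (Nat.card Ω : ℂ) * (ψ : two G c e → ℂ) (π 1) = _
    rw [map_one, (degree_eq ψ).1]
  rw [(degree_eq χ).1] at h1
  exact_mod_cast h1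

end CfsgLib.DefectTransitive
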