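import Cfsg.Agent.Lib.DefectTransitive.RankOne
import Cfsg.Agent.Lib.DefectTransitive.Kernel
import Cfsg.Agent.Lib.Blocks.DefectZeroAux
import Mathlib.GroupTheory.Perm.Cycle.Type

/-!
Transitive actions of prime power degree in groups whose `p`-elements have centralisers of odd
order: a character of `p`-defect zero, or `p`-solvability and one of 2-defect zero.  The regular
kernel theorem for actions with one fixed point per involution is a hypothesis.
-/

set_option autoImplicit false

noncomputable section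

namespace CfsgLib.DefectTransitive

open Cfsg CfsgLib.Characters CfsgLib.ClassCount CfsgLib.DefectZeroCriterion CfsgLib.BenderTrans
open CfsgLib.Involutions MulAction

universe u v

variable {G : Type u} [Group G] [Finite G] {p : ℕ} [hp : Fact p.Prime]

/-- An abelian Sylow subgroup of a faithful transitive group of `p`-power degree is regular. -/
theorem sylow_regular {Ω : Type u} [MulAction G Ω] [FaithfulSMul G Ω] [Finite Ω]
    [IsPretransitive G Ω] {r : ℕ} (hΩ : Nat.card Ω = p ^ r) (P : Sylow p G)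
    (hc : IsMulCommutative (P : Subgroup G)) (x : Ω) :
    Nat.card (P : Subgroup G) = p ^ r ∧
      ∀ y : Ω, ∃! a : (P : Subgroup G), (a : G) • x = y := by
  have hidx : (stabilizer G x).index = p ^ r := by rw [index_stabilizer_of_transitive, hΩ]
  have hS : stabilizer (P : Subgroup G) x = (stabilizer G x).subgroupOf (P : Subgroup G) := rfl
  have hdvd : p ^ r ∣ (stabilizer (P : Subgroup G) x).index := by
    rw [hS]
    change p ^ r ∣ (stabilizer G x).relIndex (P : Subgroup G)
    have h1 : (stabilizer G x).index ∣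
        ((stabilizer G x ⊓ (P : Subgroup G)).relIndex (P : Subgroup G)) *
          (P : Subgroup G).index := by
      rw [Subgroup.relIndex_mul_index inf_le_right]
      exact Subgroup.index_dvd_of_le inf_le_left
    rw [Subgroup.inf_relIndex_right, hidx] at h1
    exact (Nat.Coprime.pow_left r ((Nat.Prime.coprime_iff_not_dvd hp.out).2 P.not_dvd_index)).dvd_of_dvd_mul_right h1
  rw [index_stabilizer] at hdvd
  have hfull : orbit (P : Subgroup G) x = Set.univ := by
    refine Set.eq_of_subset_of_ncard_le (Set.subset_univ _) ?_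
    rw [Set.ncard_univ, hΩ]
    exact Nat.le_of_dvd ((Set.ncard_pos (Set.toFinite _)).2 ⟨x, mem_orbit_self x⟩) hdvd
  have hex : ∀ y : Ω, ∃ a : (P : Subgroup G), (a : G) • x = y := fun y =>
    mem_orbit_iff.1 (hfull ▸ Set.mem_univ y : y ∈ orbit (P : Subgroup G) x)
  have hfree : ∀ a b : (P : Subgroup G), (a : G) • x = (b : G) • x → a = b := by
    intro a b hab
    refine Subtype.ext (FaithfulSMul.eq_of_smul_eq_smul (α := Ω) fun y => ?_)
    obtain ⟨d, rfl⟩ := hex y
    rw [smul_smul, smul_smul, ← Subgroup.coe_mul, ← Subgroup.coe_mul, hc.is_comm.comm a d,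
      hc.is_comm.comm b d, Subgroup.coe_mul, Subgroup.coe_mul, mul_smul, mul_smul, hab]
  refine ⟨?_, fun y => ?_⟩
  · rw [← hΩ]
    exact Nat.card_eq_of_bijective (fun a : (P : Subgroup G) => (a : G) • x)
      ⟨fun a b h => hfree a b h, hex⟩
  · obtain ⟨a, ha⟩ := hex y
    exact ⟨a, ha, fun b hb => hfree b a (hb.trans ha.symm)⟩

/-- The assembly, on a point set in the universe of the group. -/
theorem main_aux (hBK : CfsgLib.BenderQ.BenderKernel.{u}) {Ω : Type u} [MulAction G Ω]
    [FaithfulSMul G Ω] [Finite Ω] [IsPretransitive G Ω] (hp2 : p ≠ 2) (hpG : p ∣ Nat.card G)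
    (h2G : 2 ∣ Nat.card G)
    (hC : ∀ g : G, g ≠ 1 → (∃ k : ℕ, orderOf g = p ^ k) →
      Odd (Nat.card ↥(Subgroup.centralizer ({g} : Set G))))
    {r : ℕ} (hr : 1 ≤ r) (hΩ : Nat.card Ω = p ^ r) :
    (∃ χ : IrrCharacter G,
        (charDegree (χ : G → ℂ)).factorization p = (Nat.card G).factorization p) ∨
      (IsPSolvable p G ∧ ∃ χ : IrrCharacter G,
        (charDegree (χ : G → ℂ)).factorization 2 = (Nat.card G).factorization 2) := by
  classical
  have : Fintype G := Fintype.ofFinite G
  have : Fintype Ω := Fintype.ofFinite Ω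
  have : Fact (Nat.Prime 2) := ⟨Nat.prime_two⟩
  by_cases hdf : ∃ χ : IrrCharacter G,
      (charDegree (χ : G → ℂ)).factorization p = (Nat.card G).factorization p
  · exact Or.inl hdf
  have hno := no_defect_zero_iff hp.out hdf
  have hinvc : ∀ t : G, orderOf t = 2 → ¬ p ∣ Nat.card (Subgroup.centralizer ({t} : Set G)) :=
    fun t ht => involution_centralizer hp2 (no_two_p hp2 hC) t ht
  obtain ⟨t₀, ht₀⟩ := exists_prime_orderOf_dvd_card' 2 h2G
  obtain ⟨P⟩ : Nonempty (Sylow p G) := inferInstance
  have hab := (involution_structure hno hinvc P ht₀).1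
  have hcard : Nat.card (P : Subgroup G) = p ^ r :=
    (sylow_regular hΩ P hab (Classical.choice
      (Nat.card_pos_iff.1 (hΩ ▸ pow_pos hp.out.pos r : 0 < Nat.card Ω)).1)).1
  have hν : (Nat.card G).factorization p = r := by
    have h1 := P.card_eq_multiplicity
    rw [hcard] at h1
    exact (Nat.pow_right_injective hp.out.two_le h1).symm
  have hpodd : Odd p := hp.out.odd_of_ne_two hp2
  have hfix : ∀ t : G, orderOf t = 2 → ∃ x : Ω, t • x = x := by
    intro t ht
    have hσ : (MulAction.toPerm t : Equiv.Perm Ω) ^ 2 ^ 1 = 1 := by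
      rw [pow_one, pow_two]
      exact Equiv.ext fun x => smul_smul_self ht x
    exact Equiv.Perm.exists_fixed_point_of_prime (p := 2) (n := 1) (by
      rw [← Nat.card_eq_fintype_card, hΩ, ← even_iff_two_dvd, Nat.not_even_iff_odd]
      exact hpodd.pow) hσ
  have huniq : ∀ s : G, orderOf s = 2 → ∀ x y : Ω, s • x = x → s • y = y → x = y := by
    intro s hs x y hsx hsy
    obtain ⟨t, htc, hti⟩ := (involution_structure hno hinvc P hs).2
    obtain ⟨g, rfl⟩ := isConj_iff.1 htc
    refine smul_left_cancel g ?_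
    obtain ⟨a, ha, -⟩ := (sylow_regular hΩ P hab (g • x)).2 (g • y)
    have h1 : ((a : G)⁻¹) • (g • x) = g • y := by
      rw [← hti _ a.2, mul_smul, mul_smul]
      rw [inv_smul_eq_iff.2 (conj_smul_fixed (g := g) hsx).symm, ha]
      exact conj_smul_fixed hsy
    have h2 : a⁻¹ = a :=
      ((sylow_regular hΩ P hab (g • x)).2 (g • y)).unique (by simpa using h1) ha
    have h3 : a = 1 := by
      rw [← orderOf_eq_one_iff]
      obtain ⟨k, hk⟩ := IsPGroup.iff_orderOf.1 P.2 a
      have h4 : orderOf a ∣ 2 := orderOf_dvd_of_pow_eq_one (by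
        rw [pow_two]; nth_rewrite 1 [← h2]; exact inv_mul_cancel a)
      rw [hk] at h4 ⊢
      exact Nat.eq_one_of_dvd_coprimes (Nat.Coprime.pow_left k
        ((Nat.coprime_primes hp.out Nat.prime_two).2 hp2)) dvd_rfl h4
    rw [← ha, h3, Subgroup.coe_one, one_smul]
  have h : OneFix G Ω :=
    { trans := fun x y => exists_smul_eq G x y
      nontriv := fun x => by
        have : Nontrivial Ω := Finite.one_lt_card_iff_nontrivial.1 (by
          rw [hΩ]; exact Nat.one_lt_pow (by omega) hp.out.one_lt)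
        exact exists_ne x
      exists_inv := ⟨t₀, ht₀⟩
      exists_fix := hfix
      unique := huniq }
  by_cases hf : HasFour G
  · obtain ⟨c, -⟩ := hfix t₀ ht₀
    obtain ⟨χ, hχ⟩ := exists_irr_card_dvd h hf
      (hBK G Ω h (fun g hg => FaithfulSMul.eq_of_smul_eq_smul (α := Ω) fun x => by
        rw [hg x, one_smul]) hf c)
    refine absurd ⟨χ, le_antisymm ((Nat.factorization_le_iff_dvd (degree_eq χ).2.2.ne'
      Nat.card_pos.ne').2 (degree_eq χ).2.1 p) ?_⟩ hdf
    rw [hν]
    exact (hp.out.pow_dvd_iff_le_factorization (degree_eq χ).2.2.ne').1 (hΩ ▸ hχ)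
  · refine Or.inr (rank_one hpG ht₀ (fun s hs => h.isConj_involutions ht₀ hs)
      (fun s t hs ht hst => ?_) (hinvc t₀ ht₀))
    by_contra hne
    exact hf ⟨s, t, hs, ht, hne, hst⟩

/-- **Transitive groups of prime power degree with odd centralisers of `p`-elements**, given the
regular kernel theorem. -/
theorem main (hBK : CfsgLib.BenderQ.BenderKernel.{u}) {Ω : Type v} [MulAction G Ω]
    [FaithfulSMul G Ω] [Finite Ω] [IsPretransitive G Ω] (hp2 : p ≠ 2) (hpG : p ∣ Nat.card G)
    (h2G : 2 ∣ Nat.card G)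
    (hC : ∀ g : G, g ≠ 1 → (∃ k : ℕ, orderOf g = p ^ k) →
      Odd (Nat.card ↥(Subgroup.centralizer ({g} : Set G))))
    {r : ℕ} (hr : 1 ≤ r) (hΩ : Nat.card Ω = p ^ r) :
    (∃ χ : IrrCharacter G,
        (charDegree (χ : G → ℂ)).factorization p = (Nat.card G).factorization p) ∨
      (IsPSolvable p G ∧ ∃ χ : IrrCharacter G,
        (charDegree (χ : G → ℂ)).factorization 2 = (Nat.card G).factorization 2) := by
  obtain ⟨x₀⟩ := (Nat.card_pos_iff.1 (hΩ ▸ pow_pos hp.out.pos r : 0 < Nat.card Ω)).1
  have : FaithfulSMul G (G ⧸ stabilizer G x₀) := ⟨fun {a b} hab =>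
    FaithfulSMul.eq_of_smul_eq_smul (α := Ω) fun y => by
      obtain ⟨g, rfl⟩ := exists_smul_eq G x₀ y
      have h1 := hab (QuotientGroup.mk g)
      rw [Quotient.smul_mk, Quotient.smul_mk, QuotientGroup.eq] at h1
      have h2 : ((a * g)⁻¹ * (b * g)) • x₀ = x₀ := h1
      rw [mul_smul, inv_smul_eq_iff] at h2
      simpa [mul_smul] using h2.symm⟩
  refine main_aux hBK (Ω := G ⧸ stabilizer G x₀) hp2 hpG h2G hC hr ?_
  rw [← hΩ, ← Subgroup.index_eq_card, index_stabilizer_of_transitive]

end CfsgLib.DefectTransitive
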