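import Cfsg.Agent.Lib.DefectTransitive.Twist
import Cfsg.Agent.Lib.Blocks.ClassCount
import Cfsg.Agent.Lib.Characters.Clifford
import Cfsg.Agent.Lib.Characters.Induction
import Cfsg.Agent.Lib.Involutions.BrauerSuzuki
import Cfsg.Agent.Lib.PCore.PSolvable
import Cfsg.Agent.Lib.PF.OddOrder

/-!
One class of involutions, two-rank one, involution centralisers of order prime to `p`.
-/

set_option autoImplicit false

noncomputable section

namespace CfsgLib.DefectTransitive

open Cfsg CfsgLib.Characters CfsgLib.ClassCount CfsgLib.Involutions CfsgLib.Clifford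

universe u

variable {G : Type u} [Group G] [Finite G] {p : ℕ} [hp : Fact p.Prime]

/-- Two-rank one: `G` is `p`-solvable and has a character of 2-defect zero. -/
theorem rank_one (hpG : p ∣ Nat.card G) {z : G} (hz : orderOf z = 2)
    (hall : ∀ s : G, orderOf s = 2 → IsConj z s)
    (huniq : ∀ s t : G, orderOf s = 2 → orderOf t = 2 → Commute s t → s = t)
    (hinvc : ¬ p ∣ Nat.card (Subgroup.centralizer ({z} : Set G))) :
    IsPSolvable p G ∧ ∃ χ : IrrCharacter G,
      (charDegree (χ : G → ℂ)).factorization 2 = (Nat.card G).factorization 2 := by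
  classical
  have : Fintype G := Fintype.ofFinite G
  have : Fact (Nat.Prime 2) := ⟨Nat.prime_two⟩
  let O : Subgroup G := pPrimeCore 2 G
  have hN : O.Normal := by infer_instance
  have hOodd : Odd (Nat.card O) := by
    rw [← Nat.not_even_iff_odd, even_iff_two_dvd]
    exact CfsgLib.PCore.not_dvd_card_pPrimeCore
  have hstar : ∀ g : G, g * z * g⁻¹ * z⁻¹ ∈ O := inZStar_of_rank_one huniq hz
  have hOz : ∀ g : G, ∃ o ∈ O, o⁻¹ * g ∈ Subgroup.centralizer ({z} : Set G) := by
    intro g
    set s := g * z * g⁻¹ with hs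
    have hso : orderOf s = 2 := (orderOf_conj_eq g z).trans hz
    have hsz : s * z ∈ O := by
      have := hstar g
      rwa [inv_eq_self_of_involution hz] at this
    have hzs : z * s ∈ O := by
      have := O.inv_mem hsz
      rwa [mul_inv_rev, inv_eq_self_of_involution hz, inv_eq_self_of_involution hso] at this
    obtain ⟨d, hd, hdz⟩ := conj_of_odd_order hz hso (hOodd.of_dvd_nat
      (Subgroup.orderOf_dvd_natCard _ hzs))
    obtain ⟨k, hk⟩ := (mem_closure_pair_iff hz hso).1 hd
    refine ⟨(z * s) ^ k, O.zpow_mem hzs k, ?_⟩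
    have hdz' : (z * s) ^ k * z * ((z * s) ^ k)⁻¹ = s := by
      rcases hk with rfl | rfl
      · exact hdz
      · refine Eq.trans ?_ hdz
        group
    rw [Subgroup.mem_centralizer_iff]
    rintro x rfl
    calc x * (((x * s) ^ k)⁻¹ * g)
        = ((x * s) ^ k)⁻¹ * (((x * s) ^ k) * x * ((x * s) ^ k)⁻¹) * g := by group
      _ = ((x * s) ^ k)⁻¹ * s * g := by rw [hdz']
      _ = ((x * s) ^ k)⁻¹ * g * x := by rw [hs]; group
  have hq : ¬ p ∣ Nat.card (G ⧸ O) := fun h => hinvc (h.trans (Subgroup.card_dvd_of_surjective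
    ((QuotientGroup.mk' O).comp (Subgroup.centralizer ({z} : Set G)).subtype) fun q => by
      obtain ⟨g, rfl⟩ := QuotientGroup.mk'_surjective O q
      obtain ⟨o, ho, hc⟩ := hOz g
      refine ⟨⟨_, hc⟩, ?_⟩
      show ((o⁻¹ * g : G) : G ⧸ O) = (g : G ⧸ O)
      rw [QuotientGroup.eq]
      have h1 := hN.conj_mem _ ho g⁻¹
      simpa [mul_assoc] using h1))
  have hsolv : Group.IsSolvable O := CfsgLib.PF.oddSolvable O hOodd
  refine ⟨CfsgLib.PCore.isPSolvable_extension O CfsgLib.PCore.isPSolvable_of_isSolvable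
    (CfsgLib.PCore.isPSolvable_of_coprime
      ((Nat.Prime.coprime_iff_not_dvd hp.out).2 hq).symm), ?_⟩
  -- a character of the core moved by `z`
  have hne : ∃ k : O, MulAut.conjNormal z k ≠ k := by
    by_contra h
    simp only [not_exists, ne_eq, not_not] at h
    have hOC : O ≤ Subgroup.centralizer ({z} : Set G) := fun o ho => by
      rw [Subgroup.mem_centralizer_iff]
      rintro x rfl
      have h1 := congrArg Subtype.val (h ⟨o, ho⟩)
      rw [MulAut.conjNormal_apply] at h1
      exact mul_inv_eq_iff_eq_mul.1 h1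
    refine hinvc (hpG.trans ?_)
    rw [show Subgroup.centralizer ({z} : Set G) = ⊤ from (Subgroup.eq_top_iff' _).2 fun g => by
      obtain ⟨o, ho, hc⟩ := hOz g
      simpa using mul_mem (hOC ho) hc, Subgroup.card_top]
  obtain ⟨θ, hθ⟩ := exists_not_fixed (MulAut.conjNormal z : MulAut O) (fun k => Subtype.ext (by
      rw [MulAut.conjNormal_apply, MulAut.conjNormal_apply, inv_eq_self_of_involution hz]
      calc z * (z * (k : G) * z) * z = (z * z) * k * (z * z) := by group
        _ = k := by rw [mul_self_eq_one hz]; simp)) hOodd hne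
  have hθc := irr_isClassFunction θ
  have hT : Odd (Nat.card (inertia hN (θ : O → ℂ))) := by
    rw [← Nat.not_even_iff_odd, even_iff_two_dvd]
    intro h2
    obtain ⟨s, hs⟩ := exists_prime_orderOf_dvd_card' 2 h2
    obtain ⟨g, hg⟩ := isConj_iff.1 (hall (s : G) (by rw [Subgroup.orderOf_coe]; exact hs))
    have h1 : (s : G) * z⁻¹ ∈ inertia hN (θ : O → ℂ) :=
      le_inertia hN hθc (hg ▸ hstar g)
    have h3 : z ∈ inertia hN (θ : O → ℂ) := by
      have := mul_mem (inv_mem h1) s.2
      simpa using this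
    exact hθ (funext fun n => by
      have := mem_inertia.1 h3 n
      rw [show (MulAut.conjNormal z : MulAut O) n = ⟨z * (n : G) * z⁻¹, hN.conj_mem n n.2 z⟩ from
        Subtype.ext (MulAut.conjNormal_apply z n)]
      exact this)
  have hθchar := isCharacter_of_irr θ.2
  have hind := CfsgLib.Induction.isCharacter_indFun O hθchar
  have hind0 : indFun O (θ : O → ℂ) ≠ 0 := fun h => by
    have h1 := congrFun h 1
    rw [CfsgLib.Induction.indFun_one_apply, Pi.zero_apply, (degree_eq θ).1] at h1
    rcases mul_eq_zero.1 h1 with h2 | h2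
    · exact Subgroup.FiniteIndex.index_ne_zero (by exact_mod_cast h2)
    · exact (degree_eq θ).2.2.ne' (by exact_mod_cast h2)
  obtain ⟨χ, hχ⟩ := exists_constituent hind hind0
  rw [CfsgLib.Induction.classInner_indFun _ _ (irr_isClassFunction χ),
    CfsgLib.Induction.classInner_swap] at hχ
  have hχ' : classInner (fun n : O => (χ : G → ℂ) n) (θ : O → ℂ) ≠ 0 := fun h => hχ (by
    rw [h]; simp)
  obtain ⟨m, hm⟩ := classInner_char_nat (isCharacter_subtype (irr_isCharacter χ) O) (isCharacter_of_irr θ.2)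
  have hdeg := clifford_degree hN χ.2 θ.2 hχ'
  rw [hm, (degree_eq χ).1, (degree_eq θ).1] at hdeg
  have hdeg' : charDegree (χ : G → ℂ) =
      m * (inertia hN (θ : O → ℂ)).index * charDegree (θ : O → ℂ) := by exact_mod_cast hdeg
  refine ⟨χ, le_antisymm ((Nat.factorization_le_iff_dvd (degree_eq χ).2.2.ne' Nat.card_pos.ne').2
    (degree_eq χ).2.1 2) ?_⟩
  have hI : (Nat.card G).factorization 2 = (inertia hN (θ : O → ℂ)).index.factorization 2 := by
    rw [← Subgroup.card_mul_index (inertia hN (θ : O → ℂ)),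
      Nat.factorization_mul Nat.card_pos.ne' Subgroup.index_ne_zero_of_finite, Finsupp.add_apply,
      Nat.factorization_eq_zero_of_not_dvd (by
        rw [← even_iff_two_dvd, Nat.not_even_iff_odd]; exact hT), zero_add]
  rw [hI]
  refine (Nat.factorization_le_iff_dvd Subgroup.index_ne_zero_of_finite
    (degree_eq χ).2.2.ne').2 ?_ 2
  exact ⟨m * charDegree (θ : O → ℂ), by rw [hdeg']; ring⟩

end CfsgLib.DefectTransitive
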