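import Cfsg.Agent.Lib.Characters.BrauerPerm
import Cfsg.Agent.Lib.Structure81.ConjCover

/-!
An involutory automorphism of an odd order group moves some irreducible character unless trivial.
-/

set_option autoImplicit false

noncomputable section

namespace CfsgLib.DefectTransitive

open Cfsg CfsgLib.Characters CfsgLib.BrauerPerm
open scoped ComplexConjugate

universe u

variable {K : Type u} [Group K] [Finite K]

theorem exists_not_fixed (e : K ≃* K) (he : ∀ k, e (e k) = k) (hodd : Odd (Nat.card K))
    (hne : ∃ k, e k ≠ k) :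
    ∃ ψ : IrrCharacter K, (fun k => (ψ : K → ℂ) (e k)) ≠ (ψ : K → ℂ) := by
  classical
  have : Fintype K := Fintype.ofFinite K
  by_contra hfix
  simp only [not_exists, ne_eq, not_not] at hfix
  have hconj : ∀ k : K, IsConj (e k) k := by
    intro k
    by_contra hc
    have h1 := column_orth (e k) k
    rw [if_neg hc] at h1
    have h2 := column_orth k k
    rw [if_pos (IsConj.refl k)] at h2
    have h3 : ∀ χ : IrrCharacter K, (χ : K → ℂ) (e k) = (χ : K → ℂ) k := fun χ => congrFun (hfix χ) k
    simp only [h3] at h1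
    rw [h1] at h2
    exact Nat.cast_ne_zero.2 Nat.card_pos.ne' h2.symm
  obtain ⟨k₀, hk₀⟩ := hne
  let C : Subgroup K := MonoidHom.eqLocus e.toMonoidHom (MonoidHom.id K)
  have hC : C = ⊤ := by
    refine CfsgLib.ConjCover.eq_top_of_conj_cover C fun k => ?_
    let σ : Equiv.Perm {x : K // IsConj k x} :=
      { toFun := fun x => ⟨e x.1, x.2.trans (hconj x.1).symm⟩
        invFun := fun x => ⟨e x.1, x.2.trans (hconj x.1).symm⟩
        left_inv := fun x => Subtype.ext (he x.1)
        right_inv := fun x => Subtype.ext (he x.1) }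
    have hσ : σ ^ 2 ^ 1 = 1 := by
      rw [pow_one, pow_two]
      exact Equiv.ext fun x => Subtype.ext (he x.1)
    have : Fact (Nat.Prime 2) := ⟨Nat.prime_two⟩
    have hcls : ¬ 2 ∣ Fintype.card {x : K // IsConj k x} := fun h2 => by
      have h3 : Fintype.card {x : K // IsConj k x} ∣ Nat.card K := by
        rw [← Nat.card_eq_fintype_card]
        exact ⟨_, (card_isConj_mul_card_centralizer k).symm⟩
      exact (Nat.not_even_iff_odd.2 hodd) (even_iff_two_dvd.2 (h2.trans h3))
    obtain ⟨⟨x, hx⟩, hfx⟩ := Equiv.Perm.exists_fixed_point_of_prime (p := 2) (n := 1) hcls hσ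
    obtain ⟨c, hc⟩ := isConj_iff.1 hx
    exact ⟨c, by rw [hc]; exact congrArg Subtype.val hfx⟩
  exact hk₀ (show k₀ ∈ C by rw [hC]; trivial)

/-- Irreducible characters moved by the automorphism are orthogonal to their twists. -/
theorem sum_mul_twist_eq_zero [Fintype K] (e : K ≃* K) {ψ : IrrCharacter K}
    (hψ : (fun k => (ψ : K → ℂ) (e k)) ≠ (ψ : K → ℂ)) :
    ∑ k : K, (ψ : K → ℂ) k * conj ((ψ : K → ℂ) (e k)) = 0 := by
  have h := classInner_irr_ne ψ.2 (isIrrCharacter_comp_equiv ψ.2 e) hψ.symm
  rw [classInner] at h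
  exact (mul_eq_zero.1 h).resolve_left (inv_ne_zero (Nat.cast_ne_zero.2 Nat.card_pos.ne'))

end CfsgLib.DefectTransitive
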